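import Cfsg.Agent.Lib.ToddCox.ON122760.P0
import Cfsg.Agent.Lib.ToddCox.ON122760.P1
import Cfsg.Agent.Lib.ToddCox.ON122760.P2
import Cfsg.Agent.Lib.ToddCox.ON122760.P3
import Cfsg.Agent.Lib.ToddCox.ON122760.P4
set_option autoImplicit false
set_option maxRecDepth 100000
namespace Cfsg.Agent.Lib.ToddCox.ON122760
theorem covered : Covered Eo inv W isH 191366 730746 := (Covered.trans (Covered.trans (Covered.trans (Covered.trans (Covered.trans (Covered.trans (Covered.trans (Covered.trans c0 c1) (Covered.trans c2 c3)) (Covered.trans (Covered.trans c4 c5) (Covered.trans c6 c7))) (Covered.trans (Covered.trans (Covered.trans c8 c9) (Covered.trans c10 c11)) (Covered.trans (Covered.trans c12 c13) (Covered.trans c14 c15)))) (Covered.trans (Covered.trans (Covered.trans (Covered.trans c16 c17) (Covered.trans c18 c19)) (Covered.trans (Covered.trans c20 c21) (Covered.trans c22 c23))) (Covered.trans (Covered.trans (Covered.trans c24 c25) (Covered.trans c26 c27)) (Covered.trans (Covered.trans c28 c29) (Covered.trans c30 (Covered.trans c31 c32)))))) (Covered.trans (Covered.trans (Covered.trans (Covered.trans (Covered.trans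 c33 c34) (Covered.trans c35 c36)) (Covered.trans (Covered.trans c37 c38) (Covered.trans c39 c40))) (Covered.trans (Covered.trans (Covered.trans c41 c42) (Covered.trans c43 c44)) (Covered.trans (Covered.trans c45 c46) (Covered.trans c47 c48)))) (Covered.trans (Covered.trans (Covered.trans (Covered.trans c49 c50) (Covered.trans c51 c52)) (Covered.trans (Covered.trans c53 c54) (Covered.trans c55 c56))) (Covered.trans (Covered.trans (Covered.trans c57 c58) (Covered.trans c59 c60)) (Covered.trans (Covered.trans c61 c62) (Covered.trans c63 (Covered.trans c64 c65))))))) (Covered.trans (Covered.trans (Covered.trans (Covered.trans (Covered.trans (Covered.trans c66 c67) (Covered.trans c68 c69)) (Covered.trans (Covered.trans c70 c71) (Covered.trans c72 c73))) (Covered.trans (Covered.trans (Covered.trans c74 c75) (Covered.trans c76 c77)) (Covered.trans (Covered.trans c78 c79) (Covered.trans c80 c81)))) (Covered.trans (Covered.trans (Covered.trans (Covered.trans c82 c83) (Covered.trans c84 c85)) (Covered.trans (Covered.trans c86 c87) (Covered.trans c88 c89))) (Covered.trans (Covered.trans (Covered.trans c90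 c91) (Covered.trans c92 c93)) (Covered.trans (Covered.trans c94 c95) (Covered.trans c96 (Covered.trans c97 c98)))))) (Covered.trans (Covered.trans (Covered.trans (Covered.trans (Covered.trans c99 c100) (Covered.trans c101 c102)) (Covered.trans (Covered.trans c103 c104) (Covered.trans c105 c106))) (Covered.trans (Covered.trans (Covered.trans c107 c108) (Covered.trans c109 c110)) (Covered.trans (Covered.trans c111 c112) (Covered.trans c113 c114)))) (Covered.trans (Covered.trans (Covered.trans (Covered.trans c115 c116) (Covered.trans c117 c118)) (Covered.trans (Covered.trans c119 c120) (Covered.trans c121 c122))) (Covered.trans (Covered.trans (Covered.trans c123 c124) (Covered.trans c125 c126)) (Covered.trans (Covered.trans c127 c128) (Covered.trans c129 (Covered.trans c130 c131)))))))) (Covered.trans (Covered.trans (Covered.trans (Covered.trans (Covered.trans (Covered.trans (Covered.trans c132 c133) (Covered.trans c134 c135)) (Covered.trans (Covered.trans c136 c137) (Covered.trans c138 c139))) (Covered.trans (Covered.trans (Covered.trans c140 c141) (Covered.trans c142 c143)) (Covered.trans (Covered.trans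 c144 c145) (Covered.trans c146 c147)))) (Covered.trans (Covered.trans (Covered.trans (Covered.trans c148 c149) (Covered.trans c150 c151)) (Covered.trans (Covered.trans c152 c153) (Covered.trans c154 c155))) (Covered.trans (Covered.trans (Covered.trans c156 c157) (Covered.trans c158 c159)) (Covered.trans (Covered.trans c160 c161) (Covered.trans c162 (Covered.trans c163 c164)))))) (Covered.trans (Covered.trans (Covered.trans (Covered.trans (Covered.trans c165 c166) (Covered.trans c167 c168)) (Covered.trans (Covered.trans c169 c170) (Covered.trans c171 c172))) (Covered.trans (Covered.trans (Covered.trans c173 c174) (Covered.trans c175 c176)) (Covered.trans (Covered.trans c177 c178) (Covered.trans c179 c180)))) (Covered.trans (Covered.trans (Covered.trans (Covered.trans c181 c182) (Covered.trans c183 c184)) (Covered.trans (Covered.trans c185 c186) (Covered.trans c187 c188))) (Covered.trans (Covered.trans (Covered.trans c189 c190) (Covered.trans c191 c192)) (Covered.trans (Covered.trans c193 c194) (Covered.trans c195 (Covered.trans c196 c197))))))) (Covered.trans (Covered.trans (Covered.trans (Covered.trans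 (Covered.trans (Covered.trans c198 c199) (Covered.trans c200 c201)) (Covered.trans (Covered.trans c202 c203) (Covered.trans c204 c205))) (Covered.trans (Covered.trans (Covered.trans c206 c207) (Covered.trans c208 c209)) (Covered.trans (Covered.trans c210 c211) (Covered.trans c212 c213)))) (Covered.trans (Covered.trans (Covered.trans (Covered.trans c214 c215) (Covered.trans c216 c217)) (Covered.trans (Covered.trans c218 c219) (Covered.trans c220 c221))) (Covered.trans (Covered.trans (Covered.trans c222 c223) (Covered.trans c224 c225)) (Covered.trans (Covered.trans c226 c227) (Covered.trans c228 (Covered.trans c229 c230)))))) (Covered.trans (Covered.trans (Covered.trans (Covered.trans (Covered.trans c231 c232) (Covered.trans c233 c234)) (Covered.trans (Covered.trans c235 c236) (Covered.trans c237 c238))) (Covered.trans (Covered.trans (Covered.trans c239 c240) (Covered.trans c241 c242)) (Covered.trans (Covered.trans c243 c244) (Covered.trans c245 (Covered.trans c246 c247))))) (Covered.trans (Covered.trans (Covered.trans (Covered.trans c248 c249) (Covered.trans c250 c251)) (Covered.trans (Covered.trans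 c252 c253) (Covered.trans c254 c255))) (Covered.trans (Covered.trans (Covered.trans c256 c257) (Covered.trans c258 c259)) (Covered.trans (Covered.trans c260 c261) (Covered.trans c262 (Covered.trans c263 c264)))))))))
theorem links : LinksOK Eo cF (2 * nEv) N ys 0 122760 := (LinksOK.trans (LinksOK.trans (LinksOK.trans (LinksOK.trans (LinksOK.trans (LinksOK.trans k0 (LinksOK.trans k1 k2)) (LinksOK.trans (LinksOK.trans k3 k4) (LinksOK.trans k5 k6))) (LinksOK.trans (LinksOK.trans (LinksOK.trans k7 k8) (LinksOK.trans k9 k10)) (LinksOK.trans (LinksOK.trans k11 k12) (LinksOK.trans k13 k14)))) (LinksOK.trans (LinksOK.trans (LinksOK.trans k15 (LinksOK.trans k16 k17)) (LinksOK.trans (LinksOK.trans k18 k19) (LinksOK.trans k20 k21))) (LinksOK.trans (LinksOK.trans (LinksOK.trans k22 k23) (LinksOK.trans k24 k25)) (LinksOK.trans (LinksOK.trans k26 k27) (LinksOK.trans k28 k29))))) (LinksOK.trans (LinksOK.trans (LinksOK.trans (LinksOK.trans k30 (LinksOK.trans k31 k32)) (LinksOK.trans (LinksOK.trans k33 k34) (LinksOK.trans k35 k36))) (LinksOK.trans (LinksOK.trans (LinksOK.trans k37 k38) (LinksOK.trans k39 k40))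 (LinksOK.trans (LinksOK.trans k41 k42) (LinksOK.trans k43 k44)))) (LinksOK.trans (LinksOK.trans (LinksOK.trans k45 (LinksOK.trans k46 k47)) (LinksOK.trans (LinksOK.trans k48 k49) (LinksOK.trans k50 k51))) (LinksOK.trans (LinksOK.trans (LinksOK.trans k52 k53) (LinksOK.trans k54 k55)) (LinksOK.trans (LinksOK.trans k56 k57) (LinksOK.trans k58 k59)))))) (LinksOK.trans (LinksOK.trans (LinksOK.trans (LinksOK.trans (LinksOK.trans k60 (LinksOK.trans k61 k62)) (LinksOK.trans (LinksOK.trans k63 k64) (LinksOK.trans k65 k66))) (LinksOK.trans (LinksOK.trans (LinksOK.trans k67 k68) (LinksOK.trans k69 k70)) (LinksOK.trans (LinksOK.trans k71 k72) (LinksOK.trans k73 k74)))) (LinksOK.trans (LinksOK.trans (LinksOK.trans k75 (LinksOK.trans k76 k77)) (LinksOK.trans (LinksOK.trans k78 k79) (LinksOK.trans k80 k81))) (LinksOK.trans (LinksOK.trans (LinksOK.trans k82 k83) (LinksOK.trans k84 k85)) (LinksOK.trans (LinksOK.trans k86 k87) (LinksOK.trans k88 k89))))) (LinksOK.trans (LinksOK.trans (LinksOK.trans (LinksOK.trans k90 (LinksOK.trans k91 k92)) (LinksOK.trans (LinksOK.trans k93 k94) (LinksOK.trans k95 k96))) (LinksOK.trans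 (LinksOK.trans (LinksOK.trans k97 k98) (LinksOK.trans k99 k100)) (LinksOK.trans (LinksOK.trans k101 k102) (LinksOK.trans k103 k104)))) (LinksOK.trans (LinksOK.trans (LinksOK.trans (LinksOK.trans k105 k106) (LinksOK.trans k107 k108)) (LinksOK.trans (LinksOK.trans k109 k110) (LinksOK.trans k111 k112))) (LinksOK.trans (LinksOK.trans (LinksOK.trans k113 k114) (LinksOK.trans k115 k116)) (LinksOK.trans (LinksOK.trans k117 k118) (LinksOK.trans k119 k120)))))))
theorem defs : ∀ c, c < nDef → chkDef Eo inv c = true := defs_of_bits 191366 13 24 (by norm_num) (by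
  intro j hj
  interval_cases j
  · exact d0
  · exact d1
  · exact d2
  · exact d3
  · exact d4
  · exact d5
  · exact d6
  · exact d7
  · exact d8
  · exact d9
  · exact d10
  · exact d11
  · exact d12
  · exact d13
  · exact d14
  · exact d15
  · exact d16
  · exact d17
  · exact d18
  · exact d19
  · exact d20
  · exact d21
  · exact d22
  · exact d23
  )
theorem words : ∀ j, j < nW → wordsOK W (relR Rb inv) inv sp j = true := allBelow_spec (by norm_num [nW]) wordsGood
end Cfsg.Agent.Lib.ToddCox.ON122760
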