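import Cfsg.Agent.Lib.ToddCox.ON122760.Tab
set_option autoImplicit false
set_option maxRecDepth 100000
namespace Cfsg.Agent.Lib.ToddCox.ON122760
theorem a21 : allBits chkAll 10 21504 = true := by decide +kernel
theorem a22 : allBits chkAll 10 22528 = true := by decide +kernel
theorem a23 : allBits chkAll 10 23552 = true := by decide +kernel
theorem a24 : allBits chkAll 10 24576 = true := by decide +kernel
theorem a25 : allBits chkAll 10 25600 = true := by decide +kernel
theorem a26 : allBits chkAll 10 26624 = true := by decide +kernel
theorem a27 : allBits chkAll 10 27648 = true := by decide +kernel
theorem a28 : allBits chkAll 10 28672 = true := by decide +kernel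
theorem a29 : allBits chkAll 10 29696 = true := by decide +kernel
theorem a30 : allBits chkAll 10 30720 = true := by decide +kernel
theorem a31 : allBits chkAll 10 31744 = true := by decide +kernel
theorem a32 : allBits chkAll 10 32768 = true := by decide +kernel
theorem a33 : allBits chkAll 10 33792 = true := by decide +kernel
theorem a34 : allBits chkAll 10 34816 = true := by decide +kernel
theorem a35 : allBits chkAll 10 35840 = true := by decide +kernel
theorem a36 : allBits chkAll 10 36864 = true := by decide +kernel
theorem a37 : allBits chkAll 10 37888 = true := by decide +kernel
theorem a38 : allBits chkAll 10 38912 = true := by decide +kernel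
theorem a39 : allBits chkAll 10 39936 = true := by decide +kernel
theorem a40 : allBits chkAll 10 40960 = true := by decide +kernel
theorem a41 : allBits chkAll 10 41984 = true := by decide +kernel
end Cfsg.Agent.Lib.ToddCox.ON122760
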